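import Cfsg.Agent.Lib.Ree.InvolClass
import Cfsg.Agent.Lib.Schur.Fusion

/-!
An element of order seven normalising a Sylow 2-subgroup of the small Ree group acts as a Singer cycle, so
that subgroup kills the 2-part.
-/

set_option autoImplicit false
set_option linter.unusedSectionVars false

namespace Cfsg.Agent.Lib.ReeMultiplier

universe u

open Cfsg.Lie
open Cfsg.Agent.Lib.Ree Cfsg.Agent.Lib.Schur.Fusion

variable {K : Type u} [Field K] [CharP K 3] [Fintype K] {m : ℕ} [hF : Fact (Fintype.card K = 3 ^ (2 * m + 1))]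

theorem exists_seven (hm : 1 ≤ m) : ∃ n ∈ normE K m, orderOf n = 7 := by
  haveI : Fact (Nat.Prime 7) := ⟨by norm_num⟩
  obtain ⟨n, hn⟩ := exists_prime_orderOf_dvd_card' (G := ↥(normE K m)) 7 (by rw [card_normE hm]; norm_num)
  exact ⟨n, n.2, by rw [Subgroup.orderOf_coe]; exact hn⟩

/-- The standard Sylow 2-subgroup kills every part. -/
theorem killsPart_sylE (hm : 1 ≤ m) (p : ℕ) : KillsPart p (sylE K m) := by
  classical
  obtain ⟨n, hn, h7⟩ := exists_seven (K := K) hm
  set x := invA K m
  let c : ℕ → G K m := fun k => n ^ k * x * (n ^ k)⁻¹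
  have hcs : ∀ k, c k ∈ sylE K m := fun k => mem_sylE_conj (pow_mem hn k) invA_mem_sylE
  have hc0 : c 0 = x := by simp [c]
  have hstep : ∀ k, n * c k * n⁻¹ = c (k + 1) := fun k => by simp only [c, pow_succ']; group
  have hfix : ∀ i, 0 < i → i < 7 → c i ≠ x := by
    intro i hi hi7 e
    have hmem : n ^ i ∈ normE K m ⊓ Subgroup.centralizer {invA K m} := by
      refine ⟨pow_mem hn i, Subgroup.mem_centralizer_singleton_iff.2 ?_⟩
      exact mul_inv_eq_iff_eq_mul.1 e
    have hd : orderOf (n ^ i) ∣ 24 := by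
      rw [← card_normE_invA (K := K) (m := m)]
      exact Subgroup.orderOf_dvd_natCard _ hmem
    rw [orderOf_pow, h7, show Nat.gcd 7 i = 1 from (Nat.Prime.coprime_iff_not_dvd (by norm_num)).2
      (Nat.not_dvd_of_pos_of_lt hi hi7)] at hd
    norm_num at hd
  have hinj : ∀ i j, i < j → j < 7 → c i ≠ c j := fun i j hij hj e => by
    refine hfix (j - i) (by omega) (by omega) ?_
    have hsplit : c j = n ^ i * c (j - i) * (n ^ i)⁻¹ := by
      simp only [c]
      conv_lhs => rw [show j = i + (j - i) by omega, pow_add]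
      group
    rw [hsplit] at e
    exact (mul_left_cancel (mul_right_cancel e)).symm
  have hcomm : ∀ a b, c a * c b = c b * c a := fun a b => sylE_comm _ (hcs a) _ (hcs b)
  have hsq : ∀ a, c a * c a = 1 := fun a => by
    have h : x * x = 1 := triple_sq x (by simp [triple, x])
    simp only [c]
    rw [show n ^ a * x * (n ^ a)⁻¹ * (n ^ a * x * (n ^ a)⁻¹) = n ^ a * (x * x) * (n ^ a)⁻¹ by group, h]
    group
  have hne1 : ∀ a, c a ≠ 1 := fun a e => invA_ne_one (K := K) (m := m) (conj_eq_one_iff.1 e)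
  set y := c 1 with hy
  set w := c 2 with hw
  have hxy : y ≠ x := hfix 1 (by norm_num) (by norm_num)
  have hwx : w ≠ x := hfix 2 (by norm_num) (by norm_num)
  have hwy : w ≠ y := (hinj 1 2 (by norm_num) (by norm_num)).symm
  have hxx : x * x = 1 := hc0 ▸ hsq 0
  have hyy : y * y = 1 := hsq 1
  have hww : w * w = 1 := hsq 2
  have cxy : x * y = y * x := hc0 ▸ hcomm 0 1
  have cxw : x * w = w * x := hc0 ▸ hcomm 0 2
  have cyw : y * w = w * y := hcomm 1 2
  have hwxy : w ≠ x * y := by
    intro e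
    have h3 : c 3 = x := by
      rw [show (3 : ℕ) = 2 + 1 from rfl, ← hstep, ← hw, e,
        show n * (x * y) * n⁻¹ = n * x * n⁻¹ * (n * y * n⁻¹) by group, ← hc0, hstep, hy, hstep, ← hy, hc0,
        show c (1 + 1) = w from rfl, e, cxy, ← mul_assoc, hyy, one_mul]
    exact hfix 3 (by norm_num) (by norm_num) h3
  let f : Fin 2 × Fin 2 × Fin 2 → sylE K m := fun e =>
    ⟨x ^ e.1.val * y ^ e.2.1.val * w ^ e.2.2.val,
      mul_mem (mul_mem (pow_mem invA_mem_sylE _) (pow_mem (hcs 1) _)) (pow_mem (hcs 2) _)⟩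
  have hx1 : x ≠ 1 := invA_ne_one
  have hy1 : y ≠ 1 := hne1 1
  have hw1 : w ≠ 1 := hne1 2
  have hxy1 : x * y ≠ 1 := fun e => hxy (mul_left_cancel (e.trans hxx.symm))
  have hker : ∀ e : Fin 2 × Fin 2 × Fin 2, (f e : G K m) = 1 → e = 0 := by
    rintro ⟨i, j, k⟩ e
    fin_cases i <;> fin_cases j <;> fin_cases k <;>
      simp only [f, pow_zero, pow_one, one_mul, mul_one] at e
    · rfl
    · exact absurd e hw1
    · exact absurd e hy1
    · exact absurd (mul_left_cancel (e.trans hyy.symm)) hwy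
    · exact absurd e hx1
    · exact absurd (mul_left_cancel (e.trans hxx.symm)) hwx
    · exact absurd e hxy1
    · exact absurd (mul_left_cancel (e.trans (show x * y * (x * y) = 1 by
        rw [mul_assoc, ← mul_assoc y, ← cxy, mul_assoc x, hyy, mul_one, hxx]).symm)) hwxy
  have hfmul : ∀ a b, (f (a + b) : G K m) = f a * f b := by
    have hC : Commute x y ∧ Commute x w ∧ Commute y w := ⟨cxy, cxw, cyw⟩
    intro a b
    simp only [f, Prod.fst_add, Prod.snd_add]
    have hp : ∀ (g : G K m), g * g = 1 → ∀ i j : Fin 2, g ^ (i + j).val = g ^ i.val * g ^ j.val := by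
      intro g hg i j
      fin_cases i <;> fin_cases j <;> simp [hg]
    rw [hp x hxx, hp y hyy, hp w hww]
    set A := x ^ a.1.val
    set A' := x ^ b.1.val
    set B := y ^ a.2.1.val
    set B' := y ^ b.2.1.val
    set D' := w ^ a.2.2.val
    set D'' := w ^ b.2.2.val
    have q1 : Commute B A' := (hC.1.symm).pow_pow _ _
    have q2 : Commute D' A' := (hC.2.1.symm).pow_pow _ _
    have q3 : Commute D' B' := (hC.2.2.symm).pow_pow _ _
    calc A * A' * (B * B') * (D' * D'') = A * (A' * B) * (B' * D') * D'' := by group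
      _ = A * (B * A') * (D' * B') * D'' := by rw [q1.eq, q3.eq]
      _ = A * B * (A' * D') * B' * D'' := by group
      _ = A * B * (D' * A') * B' * D'' := by rw [q2.eq]
      _ = _ := by group
  have hbij : Function.Bijective f := by
    refine (Nat.bijective_iff_injective_and_card f).2 ⟨fun a b e => ?_, by rw [card_sylE]; simp⟩
    have h1 : (f (a - b) : G K m) = 1 := by
      have := hfmul (a - b) b
      rw [sub_add_cancel, e] at this
      exact right_eq_mul.1 this
    exact sub_eq_zero.1 (hker _ h1)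
  have hP : sylE K m ≤ Subgroup.closure {x, y, w} := by
    intro g hg
    obtain ⟨e, he⟩ := hbij.2 ⟨g, hg⟩
    rw [show g = (f e : G K m) by rw [he]]
    exact mul_mem (mul_mem (pow_mem (Subgroup.subset_closure (by simp)) _)
      (pow_mem (Subgroup.subset_closure (by simp)) _)) (pow_mem (Subgroup.subset_closure (by simp)) _)
  have s0 : n * x * n⁻¹ = y := hc0 ▸ hstep 0
  have s1 : n * y * n⁻¹ = w := hstep 1
  obtain ⟨⟨i, j, k⟩, he⟩ := hbij.2 ⟨c 3, hcs 3⟩
  have he' : x ^ i.val * y ^ j.val * w ^ k.val = c 3 := congrArg Subtype.val he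
  have s2 : n * w * n⁻¹ = c 3 := hstep 2
  fin_cases i <;> fin_cases j <;> fin_cases k <;>
    simp only [pow_zero, pow_one, one_mul, mul_one] at he'
  · exact absurd he'.symm (hne1 3)
  · exact absurd he' (hinj 2 3 (by norm_num) (by norm_num))
  · exact absurd he' (hinj 1 3 (by norm_num) (by norm_num))
  · refine absurd ?_ hwxy
    have e : n⁻¹ * (y * w) * n = n⁻¹ * c 3 * n := by rw [he']
    rw [← s2, ← s1, ← s0] at e
    calc w = n * (n * x * n⁻¹) * n⁻¹ := by rw [s0, s1]
      _ = n⁻¹ * (n * (n * (n * x * n⁻¹) * n⁻¹) * n⁻¹) * n := by group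
      _ = n⁻¹ * (n * x * n⁻¹ * (n * (n * x * n⁻¹) * n⁻¹)) * n := e.symm
      _ = x * (n * x * n⁻¹) := by group
      _ = _ := by rw [s0]
  · exact absurd he'.symm (hfix 3 (by norm_num) (by norm_num))
  · -- the inverse acts with the other minimal polynomial
    have h4 : c 4 = y * (x * w) := by
      rw [← hstep 3, ← he', show n * (x * w) * n⁻¹ = n * x * n⁻¹ * (n * w * n⁻¹) by group, s0, s2, ← he']
    have h5 : c 5 = x * y := by
      rw [← hstep 4, h4, show n * (y * (x * w)) * n⁻¹ = n * y * n⁻¹ * (n * x * n⁻¹ * (n * w * n⁻¹)) by group,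
        s0, s1, s2, ← he', cxw, ← mul_assoc y w x, cyw, mul_assoc w y x, ← mul_assoc w w, hww, one_mul, cxy]
    have h6 : c 6 = y * w := by
      rw [← hstep 5, h5, show n * (x * y) * n⁻¹ = n * x * n⁻¹ * (n * y * n⁻¹) by group, s0, s1]
    have hback : ∀ j, n⁻¹ * c (j + 1) * n⁻¹⁻¹ = c j := fun j => by rw [← hstep j]; group
    refine killsPart_of_singer p _ x (c 6) (c 5) n⁻¹ (hP.trans ((Subgroup.closure_le _).2 ?_)) (hc0 ▸ hcomm 0 6)
      (hc0 ▸ hcomm 0 5) (hcomm 6 5) (by rw [pow_two, hxx]) (by rw [pow_two, hsq]) ?_ (hback 5) ?_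
    · have hyd : y = x * c 5 := by rw [h5, ← mul_assoc, hxx, one_mul]
      have hwd : w = y * c 6 := by rw [h6, ← mul_assoc, hyy, one_mul]
      have mx : x ∈ Subgroup.closure ({x, c 6, c 5} : Set (G K m)) := Subgroup.subset_closure (by simp)
      have my : y ∈ Subgroup.closure ({x, c 6, c 5} : Set (G K m)) := by
        rw [hyd]; exact mul_mem mx (Subgroup.subset_closure (by simp))
      rintro _ (rfl | rfl | rfl)
      · exact mx
      · exact my
      · show w ∈ Subgroup.closure ({x, c 6, c 5} : Set (G K m))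
        rw [hwd]; exact mul_mem my (Subgroup.subset_closure (by simp))
    · have e : c 7 = x := by
        have : n ^ 7 = 1 := h7 ▸ pow_orderOf_eq_one n
        simp [c, this]
      rw [← e]; exact hback 6
    · rw [hback 4, h4, h6]
      exact (show Commute x y from cxy).symm.left_comm w
  · exact killsPart_of_singer p _ x y w n hP cxy cxw cyw (by rw [pow_two, hxx]) (by rw [pow_two, hyy])
      s0 s1 (s2.trans he'.symm)
  · refine absurd ?_ (hfix 4 (by norm_num) (by norm_num))
    rw [← hstep 3, ← he', show n * (x * y * w) * n⁻¹ = n * x * n⁻¹ * (n * y * n⁻¹) * (n * w * n⁻¹) by group,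
      s0, s1, s2, ← he']
    calc y * w * (x * y * w) = y * (w * x) * y * w := by group
      _ = y * x * (w * y) * w := by rw [← cxw]; group
      _ = y * x * y * (w * w) := by rw [← cyw]; group
      _ = x * (y * y) := by rw [hww, mul_one, ← cxy, mul_assoc]
      _ = x := by rw [hyy, mul_one]

end Cfsg.Agent.Lib.ReeMultiplier
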