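import Cfsg.Agent.Lib.ReeMultiplier.Unip
import Cfsg.Agent.Lib.ReeMultiplier.SylTwo
import Cfsg.Agent.Lib.Ree.ThreeElts
import Cfsg.Agent.Lib.Ree.TorusT

/-!
The small Ree groups have trivial Schur multiplier: for every prime a subgroup of prime-to-`r` index kills
the `r`-part.
-/

set_option autoImplicit false
set_option linter.unusedSectionVars false

namespace Cfsg.Agent.Lib.ReeMultiplier

universe u

open Cfsg.Lie
open Cfsg.Agent.Lib.Ree Cfsg.Agent.Lib.Schur.Fusion
open Cfsg.Agent.Lib.LieTwisted.Ree (U1)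

variable {K : Type u} [Field K] [CharP K 3] [Fintype K] {m : ℕ} [hF : Fact (Fintype.card K = 3 ^ (2 * m + 1))]

theorem index_eq_of_card {T : Subgroup (G K m)} {n : ℕ} (h : Nat.card (G K m) = Nat.card T * n) : T.index = n :=
  Nat.eq_of_mul_eq_mul_left Nat.card_pos (T.card_mul_index.trans h)

theorem trivial_multiplier (hm : 1 ≤ m) : Cfsg.HasCyclicSchurMultiplier (G K m) 1 := by
  refine hasTrivialMultiplier fun r hr hdvd => ?_
  haveI : Fact r.Prime := ⟨hr⟩
  by_cases h2 : r = 2
  · subst h2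
    obtain ⟨S, hS⟩ := exists_sylE (K := K) (m := m)
    exact ⟨sylE K m, hS ▸ S.not_dvd_index, killsPart_sylE hm 2⟩
  by_cases h3 : r = 3
  · subst h3
    obtain ⟨S, hS⟩ := exists_sylow_U1 (K := K) (m := m)
    exact ⟨U1 (K := K) m, hS ▸ S.not_dvd_index, killsPart_U1 hF.out hm⟩
  rw [card_G'] at hdvd
  have hq : ¬ r ∣ qq m ^ 3 := fun h => prime_not_dvd_qq (m := m) hr h3 (hr.dvd_of_dvd_pow h)
  obtain ⟨a1, a2, a3⟩ := prime_factors_apart m hr h2
  by_cases hT : r ∣ tT m
  · obtain ⟨S⟩ : Nonempty (Sylow r (G K m)) := inferInstance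
    haveI : IsCyclic (S : Subgroup (G K m)) := by
      by_cases hS : Nontrivial (S : Subgroup (G K m))
      · obtain ⟨z, hz⟩ : ∃ z : Subgroup.center (S : Subgroup (G K m)), orderOf z = r := by
          haveI := S.2.center_nontrivial
          obtain ⟨k, hk⟩ := (S.2.to_subgroup (Subgroup.center _)).exists_card_eq
          refine exists_prime_orderOf_dvd_card' r (hk ▸ dvd_pow_self r fun e => ?_)
          rw [e, pow_zero] at hk
          exact (Finite.one_lt_card (α := Subgroup.center (S : Subgroup (G K m)))).ne' hk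
        have hx : orderOf ((z : (S : Subgroup (G K m))) : G K m) = r := by
          rw [Subgroup.orderOf_coe, Subgroup.orderOf_coe, hz]
        have hle : (S : Subgroup (G K m)) ≤ Subgroup.centralizer {((z : (S : Subgroup (G K m))) : G K m)} := by
          intro g hg
          rw [Subgroup.mem_centralizer_singleton_iff]
          exact congrArg Subtype.val (Subgroup.mem_center_iff.1 z.2 ⟨g, hg⟩)
        haveI := centralizer_T_isCyclic hm hr hT hx
        exact isCyclic_of_injective (Subgroup.inclusion hle) (Subgroup.inclusion_injective hle)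
      · rw [not_nontrivial_iff_subsingleton] at hS
        exact isCyclic_of_subsingleton
    obtain ⟨g, hg⟩ := (Subgroup.isCyclic_iff_exists_zpowers_eq_top _).1 this
    exact ⟨S, S.not_dvd_index, hg ▸ killsPart_zpowers r g⟩
  rcases hr.dvd_mul.1 hdvd with h | h
  · rcases hr.dvd_mul.1 h with h | h
    · rcases hr.dvd_mul.1 h with h | h
      · exact absurd h hq
      · obtain ⟨k, hk, hk'⟩ := half_qq_odd m
        obtain ⟨g, hg⟩ := (Subgroup.isCyclic_iff_exists_zpowers_eq_top _).1 (torM_isCyclic (K := K) (m := m))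
        refine ⟨torM K m, ?_, hg ▸ killsPart_zpowers r g⟩
        rw [index_eq_of_card (n := qq m ^ 3 * (qq m + 1) * tT m * 2) (by rw [card_torM, card_G', hk', hk]; ring)]
        simp only [hr.dvd_mul, not_or]
        exact ⟨⟨⟨hq, fun e => a1 ⟨h, e⟩⟩, hT⟩, fun e => h2 ((Nat.prime_dvd_prime_iff_eq hr Nat.prime_two).1 e)⟩
    · refine ⟨torA K m, ?_, killsPart_zpowers r _⟩
      rw [index_eq_of_card (n := qq m ^ 3 * (qq m - 1) * tT m * 4) (by rw [card_torA, card_G', (lP_spec m).1]; ring)]
      simp only [hr.dvd_mul, not_or]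
      exact ⟨⟨⟨hq, fun e => a1 ⟨e, h⟩⟩, hT⟩, fun e =>
        h2 ((Nat.prime_dvd_prime_iff_eq hr Nat.prime_two).1 (hr.dvd_of_dvd_pow (show r ∣ 2 ^ 2 from e)))⟩
  · exact absurd h hT

end Cfsg.Agent.Lib.ReeMultiplier
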