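import Cfsg.Agent.Lib.ReeMultiplier.Pairing
import Cfsg.Agent.Lib.Schur.Fusion

/-!
Towards the 3-part of the Schur multiplier of the small Ree group: in a central extension the preimage of the
abelian subgroup `{(0, u, v)}` has a torus-invariant complement to the kernel, normal in the preimage of
`U`, and the derived group of that preimage lies in it.
-/

set_option autoImplicit false
set_option linter.unusedSectionVars false

namespace Cfsg.Agent.Lib.ReeMultiplier

universe u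

open Cfsg.Agent.Lib.LieTwisted.ReeOut Cfsg.Agent.Lib.Schur.Fusion
open Cfsg.Agent.Lib.LieTwisted.Ree (U1 scale_ne)
open scoped commutatorElement

variable {K : Type u} [Field K] [Fintype K] [CharP K 3] {m : ℕ}

/-- The element realising the scalar `s` on the first coordinate. -/
theorem exists_weight (hK : Fintype.card K = 3 ^ (2 * m + 1)) {s : K} (hs : s ≠ 0) :
    ∃ y : Kˣ, ∀ t u v : K, Y hK y * X m t u v * (Y hK y)⁻¹ =
      X m (s * t) (s * sg m s * u) (wC m s * v) := by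
  obtain ⟨y, hy⟩ := aHom_surjective hK (Units.mk0 s hs)
  refine ⟨y, fun t u v => ?_⟩
  have ha : (aHom m y : K) = s := congrArg Units.val hy
  have hc : (y : K) = wC m s := by rw [wC, ← ha, aHom_cube hK]
  have hb : (bHom m y : K) = s * sg m s := by
    rw [bHom_val, hc, wC, map_mul, map_pow, sg_sg hK]
    have := (map_ne_zero (sg (K := K) m)).2 hs
    field_simp
  rw [YX hK y, mul_inv_cancel_right, ha, hb, hc]

theorem X_M_mul (hK : Fintype.card K = 3 ^ (2 * m + 1)) (u v u' v' : K) :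
    X m 0 u v * X m 0 u' v' = X m 0 (u + u') (v + v') := by
  rw [X_mul hK]; congr 1 <;> simp

theorem X_M_inv (hK : Fintype.card K = 3 ^ (2 * m + 1)) (u v : K) : (X m 0 u v)⁻¹ = X m 0 (-u) (-v) :=
  inv_eq_of_mul_eq_one_right (by rw [X_M_mul hK, add_neg_cancel, add_neg_cancel, X_zero])

theorem X_M_conj (hK : Fintype.card K = 3 ^ (2 * m + 1)) (t u v : K) :
    X m t 0 0 * X m 0 u v * (X m t 0 0)⁻¹ = X m 0 u (v + u * t) := by
  rw [mul_inv_eq_iff_eq_mul, X_mul hK, X_mul hK]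
  congr 1 <;> simp

theorem X_split (hK : Fintype.card K = 3 ^ (2 * m + 1)) (t u v : K) :
    X m t 0 0 * X m 0 u v = X m t u v := by
  rw [X_mul hK]; congr 1 <;> simp

theorem X_comm_exists (hK : Fintype.card K = 3 ^ (2 * m + 1)) (t t' : K) :
    ∃ w z, ⁅X m t 0 0, X m t' 0 0⁆ = X m 0 w z := by
  refine ⟨sg m t * t' - sg m t' * t,
    sg m t' * t * (t' - t) - sg m t * t' * (t - t') + (sg m t * t' - sg m t' * t) * (t + t'), ?_⟩
  rw [commutatorElement_def, mul_inv_eq_iff_eq_mul, mul_inv_eq_iff_eq_mul, X_mul hK, X_mul hK, X_mul hK]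
  congr 1 <;> simp <;> ring

/-- In this field every element or its negative is a square. -/
theorem isSquare_or_neg (hK : Fintype.card K = 3 ^ (2 * m + 1)) (s : K) : IsSquare s ∨ IsSquare (-s) := by
  classical
  have hm1 : ¬ IsSquare (-1 : K) := by
    rw [FiniteField.isSquare_neg_one_iff, not_not, hK, pow_succ, pow_mul]
    simp [Nat.mul_mod, Nat.pow_mod]
  by_cases hs : IsSquare s
  · exact Or.inl hs
  refine Or.inr ?_
  have hs0 : s ≠ 0 := fun e => hs (e ▸ IsSquare.zero)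
  have hF : ringChar K ≠ 2 := by rw [ringChar.eq K 3]; norm_num
  rw [← quadraticChar_one_iff_isSquare (neg_ne_zero.2 hs0), neg_eq_neg_one_mul, map_mul,
    (quadraticChar_neg_one_iff_not_isSquare).2 hm1, (quadraticChar_neg_one_iff_not_isSquare).2 hs]
  norm_num

/-- Lifts of the elements of `U` and of the torus in a central extension of the Ree group. -/
structure Lf {Γ : Type u} [Group Γ] (hK : Fintype.card K = 3 ^ (2 * m + 1)) (σ : Γ →* RG K m) where
  ker_le : σ.ker ≤ Subgroup.center Γ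
  L : K → K → K → Γ
  spec_L : ∀ t u v, σ (L t u v) = X m t u v
  N : Kˣ → Γ
  spec_N : ∀ y, σ (N y) = Y hK y

namespace Lf

variable {Γ : Type u} [Group Γ] {hK : Fintype.card K = 3 ^ (2 * m + 1)} {σ : Γ →* RG K m} (E : Lf hK σ)

include E in
theorem central {w : Γ} (hw : σ w = 1) (g : Γ) : g * w = w * g :=
  Subgroup.mem_center_iff.1 (E.ker_le hw) g

theorem spec_conj (y : Kˣ) {g : Γ} {t u v : K} (hg : σ g = X m t u v) :
    σ (E.N y * g * (E.N y)⁻¹) = X m ((aHom m y : K) * t) ((bHom m y : K) * u) ((y : K) * v) := by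
  rw [map_mul, map_mul, map_inv, E.spec_N, hg, YX hK y, mul_inv_cancel_right]

theorem X_M_commute (u v u' v' : K) : Commute (σ (E.L 0 u v)) (σ (E.L 0 u' v')) := by
  rw [E.spec_L, E.spec_L]
  show X m 0 u v * X m 0 u' v' = X m 0 u' v' * X m 0 u v
  rw [X_M_mul hK, X_M_mul hK, add_comm u, add_comm v]

/-- The commutator pairing on the middle subgroup. -/
def gam (p q : K × K) : Γ := ⁅E.L 0 p.1 p.2, E.L 0 q.1 q.2⁆

theorem gam_right (p q q' : K × K) : E.gam p (q + q') = E.gam p q * E.gam p q' := by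
  show ⁅E.L 0 p.1 p.2, E.L 0 (q + q').1 (q + q').2⁆ = _
  rw [commutator_congr E.ker_le rfl (show σ (E.L 0 (q + q').1 (q + q').2) = σ (E.L 0 q.1 q.2 * E.L 0 q'.1 q'.2) by
    rw [map_mul, E.spec_L, E.spec_L, E.spec_L, X_M_mul hK, Prod.fst_add, Prod.snd_add]),
    commutator_mul_right E.ker_le (E.X_M_commute _ _ _ _)]
  rfl

theorem gam_symm (p q : K × K) : E.gam p q = (E.gam q p)⁻¹ := (commutatorElement_inv _ _).symm

theorem gam_left (p p' q : K × K) : E.gam (p + p') q = E.gam p q * E.gam p' q := by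
  rw [gam_symm, gam_right, mul_inv_rev, ← gam_symm, ← gam_symm]
  exact Subgroup.mem_center_iff.1 (central_of_commute E.ker_le (E.X_M_commute _ _ _ _)) _

theorem gam_conj (y : Kˣ) (u v u' v' : K) :
    E.gam ((bHom m y : K) * u, (y : K) * v) ((bHom m y : K) * u', (y : K) * v') = E.gam (u, v) (u', v') := by
  refine commutator_conj E.ker_le (n := E.N y) (E.X_M_commute _ _ _ _) ?_ ?_ <;>
    · rw [← map_inv, ← map_mul, ← map_mul, E.spec_conj y (E.spec_L _ _ _), E.spec_L, mul_zero]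

theorem gam_triv (hm : 1 ≤ m) (p q : K × K) : E.gam p q = 1 := by
  obtain ⟨x, hx0, hx1, hx2, -⟩ := exists_good hK hm
  have h1 : ∀ a b c : K, E.gam (a + b, 0) (c, 0) = E.gam (a, 0) (c, 0) * E.gam (b, 0) (c, 0) := fun a b c => by
    rw [← E.gam_left, Prod.mk_add_mk, add_zero]
  have h2 : ∀ c a b : K, E.gam (c, 0) (a + b, 0) = E.gam (c, 0) (a, 0) * E.gam (c, 0) (b, 0) := fun c a b => by
    rw [← E.gam_right, Prod.mk_add_mk, add_zero]
  have uv : ∀ u v, E.gam (u, 0) (0, v) = 1 := fun u v => by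
    refine trivial_of_neg (f := fun v => E.gam (u, 0) (0, v)) (fun a b => ?_) (fun a => ?_) v
    · rw [← E.gam_right, Prod.mk_add_mk, add_zero]
    · have := E.gam_conj (-1) u 0 0 a
      rw [bHom_val, Units.val_neg, Units.val_one, map_neg, map_one, div_self (by norm_num : (-1 : K) ≠ 0),
        one_mul, one_mul, mul_zero, neg_mul, one_mul] at this
      exact this
  have uu : ∀ u u', E.gam (u, 0) (u', 0) = 1 := by
    intro u u'
    have sq : ∀ d : K, d ≠ 0 → ∀ a b : K, E.gam (d ^ 2 * a, 0) (d ^ 2 * b, 0) = E.gam (a, 0) (b, 0) := fun d hd a b => by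
      obtain ⟨y, hy⟩ := exists_bHom_sq hK hd
      have := E.gam_conj y a 0 b 0
      rwa [hy, mul_zero] at this
    have ng : ∀ a b : K, E.gam (-a, 0) (-b, 0) = E.gam (a, 0) (b, 0) := fun a b => by
      have hl : ∀ b, E.gam (-a, 0) (b, 0) = (E.gam (a, 0) (b, 0))⁻¹ := fun b =>
        eq_inv_of_mul_eq_one_left (by
          rw [← h1, neg_add_cancel]
          exact one_of_add (f := fun a => E.gam (a, 0) (b, 0)) fun c d => h1 c d b)
      rw [hl, inv_eq_iff_mul_eq_one, ← h2, neg_add_cancel]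
      exact one_of_add (f := fun b => E.gam (a, 0) (b, 0)) (h2 a)
    refine trivial_of_scalar (β := fun a b => E.gam (a, 0) (b, 0)) h1 h2 (fun s hs a b => ?_) hx0 hx1 hx2 u u'
    rcases isSquare_or_neg hK s with ⟨d, rfl⟩ | ⟨d, hd⟩
    · rw [← pow_two]; exact sq d (left_ne_zero_of_mul hs) a b
    · obtain rfl : s = -(d ^ 2) := by rw [pow_two, ← hd, neg_neg]
      rw [neg_mul, neg_mul]
      exact (ng _ _).trans (sq d (by rintro rfl; simp at hs) a b)
  have vv : ∀ v v', E.gam (0, v) (0, v') = 1 := by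
    intro v v'
    refine trivial_of_scalar (β := fun a b => E.gam (0, a) (0, b))
      (fun a b c => by rw [← E.gam_left, Prod.mk_add_mk, add_zero])
      (fun c a b => by rw [← E.gam_right, Prod.mk_add_mk, add_zero]) (fun c hc a b => ?_) hx0 hx1 hx2 v v'
    have := E.gam_conj (Units.mk0 c hc) 0 a 0 b
    rwa [mul_zero, Units.val_mk0] at this
  rw [show p = (p.1, 0) + (0, p.2) by simp, show q = (q.1, 0) + (0, q.2) by simp, E.gam_left, E.gam_right,
    E.gam_right, uv, uu, vv, E.gam_symm (0, p.2) (q.1, 0), uv]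
  simp

include E in
/-- The preimage of the middle subgroup is commutative. -/
theorem middle_comm (hm : 1 ≤ m) {g h : Γ} {u v u' v' : K} (hg : σ g = X m 0 u v) (hh : σ h = X m 0 u' v') :
    g * h = h * g := by
  refine commutatorElement_eq_one_iff_mul_comm.1 ?_
  rw [commutator_congr E.ker_le (a' := E.L 0 u v) (b' := E.L 0 u' v') (hg.trans (E.spec_L 0 u v).symm)
    (hh.trans (E.spec_L 0 u' v').symm)]
  exact E.gam_triv hm (u, v) (u', v')

include E in
/-- A torus-equivariant additive section over the middle subgroup. -/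
theorem exists_section (hm : 1 ≤ m) : ∃ Md : K × K → Γ, (∀ p, σ (Md p) = X m 0 p.1 p.2) ∧
    (∀ p q, Md (p + q) = Md p * Md q) ∧
    ∀ (y : Kˣ) (u v : K), E.N y * Md (u, v) * (E.N y)⁻¹ = Md ((bHom m y : K) * u, (y : K) * v) := by
  obtain ⟨x, hx0, hx1, hx2, -⟩ := exists_good hK hm
  obtain ⟨b₀, hbx⟩ : ∃ b, b = (bHom m (Units.mk0 x hx0) : K) := ⟨_, rfl⟩
  have hb1 : b₀ - 1 ≠ 0 := fun e => by
    rw [sub_eq_zero, hbx, bHom_val, Units.val_mk0, div_eq_one_iff_eq hx0] at e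
    have e2 := congrArg (sg m) e
    rw [sg_sg hK, e] at e2
    have h3 : x * ((x - 1) * (x + 1)) = 0 := by linear_combination e2
    rcases mul_eq_zero.1 h3 with h | h
    · exact hx0 h
    · rcases mul_eq_zero.1 h with h | h
      · exact hx2 h
      · exact hx1 h
  obtain ⟨n₀, hn₀⟩ : ∃ n, n = E.N (Units.mk0 x hx0) := ⟨_, rfl⟩
  have hcon : ∀ u v (g : Γ), σ g = X m 0 u v → σ (n₀ * g * n₀⁻¹) = X m 0 (b₀ * u) (x * v) := fun u v g hg => by
    rw [hn₀, E.spec_conj _ hg, mul_zero, ← hbx, Units.val_mk0]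
  let δ : Γ → Γ := fun g => n₀ * g * n₀⁻¹ * g⁻¹
  have hδ : ∀ u v (g : Γ), σ g = X m 0 u v → σ (δ g) = X m 0 ((b₀ - 1) * u) ((x - 1) * v) := fun u v g hg => by
    show σ (n₀ * g * n₀⁻¹ * g⁻¹) = _
    rw [map_mul, map_inv, hcon u v g hg, hg, X_M_inv hK, X_M_mul hK]
    congr 1 <;> ring
  have hδk : ∀ g h : Γ, σ g = σ h → δ g = δ h := by
    intro g h e
    obtain ⟨c, hc, rfl⟩ : ∃ c, σ c = 1 ∧ g = h * c :=
      ⟨h⁻¹ * g, by rw [map_mul, map_inv, e, inv_mul_cancel], by group⟩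
    show n₀ * (h * c) * n₀⁻¹ * (h * c)⁻¹ = n₀ * h * n₀⁻¹ * h⁻¹
    rw [show n₀ * (h * c) * n₀⁻¹ * (h * c)⁻¹ = n₀ * h * (c * n₀⁻¹ * c⁻¹) * h⁻¹ by group, ← E.central hc,
      mul_inv_cancel_right]
  refine ⟨fun p => δ (E.L 0 ((b₀ - 1)⁻¹ * p.1) ((x - 1)⁻¹ * p.2)), fun p => ?_, fun p q => ?_, fun y u v => ?_⟩
  · show σ (δ _) = _
    rw [hδ _ _ _ (E.spec_L _ _ _), mul_inv_cancel_left₀ hb1, mul_inv_cancel_left₀ hx2]
  · set P := E.L 0 ((b₀ - 1)⁻¹ * p.1) ((x - 1)⁻¹ * p.2)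
    set Q := E.L 0 ((b₀ - 1)⁻¹ * q.1) ((x - 1)⁻¹ * q.2)
    show δ (E.L 0 _ _) = δ P * δ Q
    rw [hδk _ (P * Q) (by
      rw [map_mul, E.spec_L, E.spec_L, E.spec_L, X_M_mul hK, Prod.fst_add, Prod.snd_add, mul_add, mul_add])]
    show n₀ * (P * Q) * n₀⁻¹ * (P * Q)⁻¹ = _
    calc n₀ * (P * Q) * n₀⁻¹ * (P * Q)⁻¹
        = n₀ * P * n₀⁻¹ * (δ Q * P⁻¹) := by simp only [δ]; group
      _ = n₀ * P * n₀⁻¹ * (P⁻¹ * δ Q) := by
        rw [E.middle_comm hm (hδ _ _ _ (E.spec_L _ _ _)) (show σ P⁻¹ = X m 0 _ _ by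
          rw [map_inv, E.spec_L, X_M_inv hK])]
      _ = _ := by simp only [δ]; group
  · set P := E.L 0 ((b₀ - 1)⁻¹ * u) ((x - 1)⁻¹ * v) with hP
    have hg : σ (E.N y * P * (E.N y)⁻¹) =
        X m 0 ((b₀ - 1)⁻¹ * ((bHom m y : K) * u)) ((x - 1)⁻¹ * ((y : K) * v)) := by
      rw [E.spec_conj y (E.spec_L _ _ _), mul_zero]
      congr 1 <;> ring
    show E.N y * δ P * (E.N y)⁻¹ = δ (E.L 0 _ _)
    refine Eq.trans ?_ (hδk (E.N y * P * (E.N y)⁻¹) _ (by rw [hg]; exact (E.spec_L _ _ _).symm))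
    have hcen : (E.N y * n₀)⁻¹ * (n₀ * E.N y) ∈ Subgroup.center Γ :=
      E.ker_le (by
        rw [MonoidHom.mem_ker, map_mul, map_inv, map_mul, map_mul, hn₀, E.spec_N, E.spec_N, Y_mul, Y_mul,
          mul_comm y, inv_mul_cancel])
    have e1 := Subgroup.mem_center_iff.1 hcen P
    symm
    calc n₀ * (E.N y * P * (E.N y)⁻¹) * n₀⁻¹ * (E.N y * P * (E.N y)⁻¹)⁻¹
        = (E.N y * n₀) * ((E.N y * n₀)⁻¹ * (n₀ * E.N y) * P) * (n₀ * E.N y)⁻¹ *
            (E.N y * P⁻¹ * (E.N y)⁻¹) := by group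
      _ = (E.N y * n₀) * (P * ((E.N y * n₀)⁻¹ * (n₀ * E.N y))) * (n₀ * E.N y)⁻¹ *
            (E.N y * P⁻¹ * (E.N y)⁻¹) := by rw [e1]
      _ = _ := by simp only [δ]; group

variable {Md : K × K → Γ} (hMσ : ∀ p, σ (Md p) = X m 0 p.1 p.2) (hMadd : ∀ p q, Md (p + q) = Md p * Md q)
  (hMy : ∀ (y : Kˣ) (u v : K), E.N y * Md (u, v) * (E.N y)⁻¹ = Md ((bHom m y : K) * u, (y : K) * v))
include hMσ hMadd hMy

/-- Conjugation of the section by the lifts of first coordinates. -/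
theorem conj_section (hm : 1 ≤ m) (t u v : K) :
    E.L t 0 0 * Md (u, v) * (E.L t 0 0)⁻¹ = Md (u, v + u * t) := by
  obtain ⟨x, hx0, hx1, hx2, hxs⟩ := exists_good hK hm
  obtain ⟨f, hf⟩ : ∃ f : K → K → K → Γ,
      ∀ t u v, f t u v = E.L t 0 0 * Md (u, v) * (E.L t 0 0)⁻¹ * (Md (u, v + u * t))⁻¹ := ⟨_, fun _ _ _ => rfl⟩
  have hf1 : ∀ t u v, σ (f t u v) = 1 := fun t u v => by
    rw [hf, map_mul, map_mul, map_mul, map_inv, map_inv, E.spec_L, hMσ, hMσ, X_M_conj hK, mul_inv_cancel]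
  have fadd : ∀ t u v u' v', f t (u + u') (v + v') = f t u v * f t u' v' := by
    intro t u v u' v'
    have e : (u + u', v + v' + (u + u') * t) = (u, v + u * t) + (u', v' + u' * t) := by
      rw [Prod.mk_add_mk]; congr 1; ring
    rw [hf t (u + u'), e, show ((u + u', v + v') : K × K) = (u, v) + (u', v') from rfl, hMadd, hMadd, mul_inv_rev]
    calc E.L t 0 0 * (Md (u, v) * Md (u', v')) * (E.L t 0 0)⁻¹ *
          ((Md (u', v' + u' * t))⁻¹ * (Md (u, v + u * t))⁻¹)
        = E.L t 0 0 * Md (u, v) * (E.L t 0 0)⁻¹ * (f t u' v' * (Md (u, v + u * t))⁻¹) := by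
          simp only [hf]; group
      _ = E.L t 0 0 * Md (u, v) * (E.L t 0 0)⁻¹ * ((Md (u, v + u * t))⁻¹ * f t u' v') := by
          rw [E.central (hf1 t u' v')]
      _ = _ := by simp only [hf]; group
  have fadd1 : ∀ t t' u v, f (t + t') u v = f t u (v + u * t') * f t' u v := by
    intro t t' u v
    obtain ⟨c, ⟨a, b, hc⟩, e⟩ : ∃ c, (∃ a b, σ c = X m 0 a b) ∧ E.L (t + t') 0 0 = E.L t 0 0 * E.L t' 0 0 * c :=
      ⟨(E.L t 0 0 * E.L t' 0 0)⁻¹ * E.L (t + t') 0 0, ⟨sg m t' * t, -(sg m t' * t * (t' - t)), by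
        rw [map_mul, map_inv, map_mul, E.spec_L, E.spec_L, E.spec_L, inv_mul_eq_iff_eq_mul, X_mul hK, X_mul hK]
        congr 1 <;> simp⟩, by group⟩
    rw [hf (t + t'), e, show v + u * (t + t') = v + u * t' + u * t by ring]
    calc E.L t 0 0 * E.L t' 0 0 * c * Md (u, v) * (E.L t 0 0 * E.L t' 0 0 * c)⁻¹ *
          (Md (u, v + u * t' + u * t))⁻¹
        = E.L t 0 0 * E.L t' 0 0 * (c * Md (u, v) * c⁻¹) * (E.L t' 0 0)⁻¹ * (E.L t 0 0)⁻¹ *
          (Md (u, v + u * t' + u * t))⁻¹ := by group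
      _ = E.L t 0 0 * f t' u v * Md (u, v + u * t') * (E.L t 0 0)⁻¹ * (Md (u, v + u * t' + u * t))⁻¹ := by
          rw [E.middle_comm hm hc (hMσ _), mul_inv_cancel_right]
          simp only [hf]; group
      _ = _ := by
          rw [E.central (hf1 t' u v) (E.L t 0 0), E.central (hf1 t' u v) (f t u (v + u * t'))]
          simp only [hf]; group
  have finv : ∀ (y : Kˣ) t u v, f ((aHom m y : K) * t) ((bHom m y : K) * u) ((y : K) * v) = f t u v := by
    intro y t u v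
    obtain ⟨c, hc, e2⟩ : ∃ c, σ c = 1 ∧ E.L ((aHom m y : K) * t) 0 0 = E.N y * E.L t 0 0 * (E.N y)⁻¹ * c :=
      ⟨(E.N y * E.L t 0 0 * (E.N y)⁻¹)⁻¹ * E.L ((aHom m y : K) * t) 0 0, by
        rw [map_mul, map_inv, E.spec_conj y (E.spec_L _ _ _), E.spec_L, mul_zero, mul_zero, inv_mul_cancel],
        by group⟩
    have hab : (bHom m y : K) * (aHom m y : K) = (y : K) := by
      have e := aHom_cube hK y
      have hb : (bHom m y : K) = sg m (aHom m y : K) * (aHom m y : K) := by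
        rw [bHom_val, aHom_val, map_div₀, map_pow, sg_sg hK]
        have := y.ne_zero
        have := (map_ne_zero (sg m)).2 y.ne_zero
        field_simp
      rw [hb]; linear_combination e
    rw [hf, e2, show (y : K) * v + (bHom m y : K) * u * ((aHom m y : K) * t) = (y : K) * (v + u * t) by
      linear_combination (u * t) * hab, ← hMy, ← hMy]
    calc E.N y * E.L t 0 0 * (E.N y)⁻¹ * c * (E.N y * Md (u, v) * (E.N y)⁻¹) *
          (E.N y * E.L t 0 0 * (E.N y)⁻¹ * c)⁻¹ * (E.N y * Md (u, v + u * t) * (E.N y)⁻¹)⁻¹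
        = E.N y * E.L t 0 0 * (E.N y)⁻¹ * (c * (E.N y * Md (u, v) * (E.N y)⁻¹) * c⁻¹) *
          (E.N y * E.L t 0 0 * (E.N y)⁻¹)⁻¹ * (E.N y * Md (u, v + u * t) * (E.N y)⁻¹)⁻¹ := by group
      _ = E.N y * f t u v * (E.N y)⁻¹ := by
          rw [← E.central hc, mul_inv_cancel_right]
          simp only [hf]; group
      _ = _ := by rw [E.central (hf1 t u v), mul_inv_cancel_right]
  have hwt : ∀ s : K, s ≠ 0 → ∃ y : Kˣ, (aHom m y : K) = s ∧ (y : K) = wC m s := fun s hs => by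
    obtain ⟨y, hy⟩ := aHom_surjective hK (Units.mk0 s hs)
    exact ⟨y, congrArg Units.val hy, by rw [wC, ← show (aHom m y : K) = s from congrArg Units.val hy, aHom_cube hK]⟩
  have fv : ∀ t v, f t 0 v = 1 := by
    intro t v
    refine trivial_of_sum (β := fun t v => f t 0 v) (fun a b q => ?_) (fun p a b => ?_) (wC m)
      (fun s hs => ⟨mul_ne_zero (pow_ne_zero _ hs) ((map_ne_zero _).2 hs), fun p q => ?_⟩)
      hx0 hx1 hx2 (by linear_combination x * three_eq_zero (K := K)) hxs t v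
    · show f (a + b) 0 q = _
      rw [fadd1, zero_mul, add_zero]
    · show f p 0 (a + b) = _
      rw [← fadd, add_zero]
    · obtain ⟨y, ha, hc⟩ := hwt s hs
      have := finv y p 0 q
      rwa [mul_zero, ha, hc] at this
  have fu : ∀ t u v, f t u v = f t u 0 := fun t u v => by
    conv_lhs => rw [← zero_add v, ← add_zero u, fadd, fv, mul_one]
  have fu0 : ∀ t u, f t u 0 = 1 := fun t u =>
    trivial_of_neg (f := fun t => f t u 0) (fun a b => by
        show f (a + b) u 0 = _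
        rw [fadd1, fu a])
      (fun a => by
        have := finv (-1) a u 0
        rw [aHom_val, bHom_val, Units.val_neg, Units.val_one, map_neg, map_one, mul_zero,
          div_self (by norm_num : (-1 : K) ≠ 0), one_mul, even_two.neg_one_pow, div_neg, div_one, neg_one_mul] at this
        exact this) t
  have e := (fu t u v).trans (fu0 t u)
  rw [hf] at e
  exact mul_inv_eq_one.1 e

end Lf

end Cfsg.Agent.Lib.ReeMultiplier
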