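import Cfsg.Agent.Lib.LieTwisted.ReeOutBasic

/-!
Biadditive maps on a field of characteristic three that are invariant under weights of a torus, and the
element of the field used to kill the pairing of weights `s` and `s² s^θ`.
-/

set_option autoImplicit false
set_option linter.unusedSectionVars false

namespace Cfsg.Agent.Lib.ReeMultiplier

open Cfsg.Agent.Lib.LieTwisted.ReeOut
open scoped Polynomial

variable {K : Type*} [Field K] [CharP K 3] {A : Type*} [Group A]

theorem three_eq_zero : (3 : K) = 0 := CharP.cast_eq_zero K 3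

theorem one_of_add {f : K → A} (h : ∀ a b, f (a + b) = f a * f b) : f 0 = 1 := by
  have := h 0 0
  rw [add_zero] at this
  exact left_eq_mul.1 this

/-- An additive map invariant under negation is trivial. -/
theorem trivial_of_neg {f : K → A} (h : ∀ a b, f (a + b) = f a * f b) (hn : ∀ a, f (-a) = f a) (t : K) :
    f t = 1 := by
  have h3 : f t * f t * f t = 1 := by
    rw [← h, ← h, show t + t + t = (3 : K) * t by ring, three_eq_zero, zero_mul, one_of_add h]
  have h2 : f t * f t = 1 := by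
    calc f t * f t = f (-t) * f t := by rw [hn]
      _ = 1 := by rw [← h, neg_add_cancel, one_of_add h]
  rwa [h2, one_mul] at h3

/-- A biadditive map with weights `s` and `μ s` is trivial if three scalars summing to zero have
weights whose inverses do not. -/
theorem trivial_of_sum {β : K → K → A} (h1 : ∀ a b q, β (a + b) q = β a q * β b q)
    (h2 : ∀ p a b, β p (a + b) = β p a * β p b) (μ : K → K)
    (hμ : ∀ s, s ≠ 0 → μ s ≠ 0 ∧ ∀ p q, β (s * p) (μ s * q) = β p q)
    {x y z : K} (hx : x ≠ 0) (hy : y ≠ 0) (hz : z ≠ 0) (hxyz : x + y + z = 0)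
    (hs : (μ x)⁻¹ + (μ y)⁻¹ + (μ z)⁻¹ ≠ 0) (p q : K) : β p q = 1 := by
  have move : ∀ s, s ≠ 0 → ∀ p q, β (s * p) q = β p ((μ s)⁻¹ * q) := fun s hs p q => by
    rw [← (hμ s hs).2 p ((μ s)⁻¹ * q), mul_inv_cancel_left₀ (hμ s hs).1]
  obtain ⟨q', rfl⟩ : ∃ q', q = ((μ x)⁻¹ + (μ y)⁻¹ + (μ z)⁻¹) * q' := ⟨_, (mul_inv_cancel_left₀ hs q).symm⟩
  rw [add_mul, add_mul, h2, h2, ← move x hx, ← move y hy, ← move z hz, ← h1, ← h1, ← add_mul, ← add_mul, hxyz,
    zero_mul]
  exact one_of_add (f := fun a => β a q') fun a b => h1 a b q'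

/-- Equal weights. -/
theorem trivial_of_scalar {β : K → K → A} (h1 : ∀ a b q, β (a + b) q = β a q * β b q)
    (h2 : ∀ p a b, β p (a + b) = β p a * β p b) (hinv : ∀ s, s ≠ 0 → ∀ p q, β (s * p) (s * q) = β p q)
    {x : K} (hx : x ≠ 0) (hx1 : x + 1 ≠ 0) (hx2 : x - 1 ≠ 0) (p q : K) : β p q = 1 := by
  refine trivial_of_sum h1 h2 id (fun s hs => ⟨hs, hinv s hs⟩) hx hx1 hx2
    (by linear_combination x * three_eq_zero (K := K)) (fun e => ?_) p q
  simp only [id] at e
  field_simp at e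
  exact one_ne_zero (by linear_combination -e + (x ^ 2) * three_eq_zero (K := K))

variable [Fintype K] {m : ℕ}

/-- The weight of the third coordinate in terms of that of the first. -/
noncomputable def wC (m : ℕ) (s : K) : K := s ^ 2 * sg m s

theorem exists_good (hK : Fintype.card K = 3 ^ (2 * m + 1)) (hm : 1 ≤ m) :
    ∃ x : K, x ≠ 0 ∧ x + 1 ≠ 0 ∧ x - 1 ≠ 0 ∧
      (wC m x)⁻¹ + (wC m (x + 1))⁻¹ + (wC m (x - 1))⁻¹ ≠ 0 := by
  classical
  set r := 3 ^ (m + 1) with hr
  have hr9 : 9 ≤ r := by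
    rw [hr]
    calc 9 = 3 ^ 2 := by norm_num
      _ ≤ 3 ^ (m + 1) := Nat.pow_le_pow_right (by norm_num) (by omega)
  let T : K[X] := Polynomial.X
  let S : K[X] := T ^ r
  let N : K[X] := ((T + 1) ^ 2 * (T - 1) ^ 2) * ((S + 1) * (S - 1)) + (T ^ 2 * (T - 1) ^ 2) * (S * (S - 1)) +
    (T ^ 2 * (T + 1) ^ 2) * (S * (S + 1))
  let R : K[X] := S * (T ^ 2 * (T - 1) ^ 2 * (-1) + T ^ 2 * (T + 1) ^ 2) +
    (-((T + 1) ^ 2 * (T - 1) ^ 2))
  have h3 : (3 : K[X]) = 0 := CharP.cast_eq_zero K[X] 3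
  have hN : N = T ^ (2 * r) + R := by
    simp only [N, R, S, pow_mul', pow_two]
    linear_combination ((T ^ r) ^ 2 * T ^ 4) * h3
  have hRdeg : R.natDegree ≤ r + 4 := by
    simp only [R, S, T]
    compute_degree <;> omega
  have hNm : N.Monic := by
    rw [hN]
    exact Polynomial.monic_X_pow_add (lt_of_le_of_lt Polynomial.degree_le_natDegree
      (by exact_mod_cast (show R.natDegree < 2 * r by omega)))
  have q1 : (T + 1 : K[X]).Monic := by simp only [T]; monicity!
  have q2 : (T - 1 : K[X]).Monic := by simp only [T]; monicity!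
  let P : K[X] := T * (T + 1) * (T - 1) * N
  have hP : P.Monic := ((Polynomial.monic_X.mul q1).mul q2).mul hNm
  have hdeg : P.natDegree ≤ 2 * r + 3 := by
    refine Polynomial.natDegree_mul_le.trans ?_
    have a1 : (T * (T + 1) * (T - 1) : K[X]).natDegree ≤ 3 := by simp only [T]; compute_degree
    have a2 : N.natDegree ≤ 2 * r := by
      rw [hN]
      exact Polynomial.natDegree_add_le_of_degree_le (Polynomial.natDegree_X_pow_le _) (by omega)
    omega
  obtain ⟨x, hx⟩ : ∃ x, P.eval x ≠ 0 := by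
    by_contra hall
    push Not at hall
    have hle : Fintype.card K ≤ P.natDegree := by
      rw [← Finset.card_univ]
      exact Polynomial.card_le_degree_of_subset_roots fun x _ =>
        (Polynomial.mem_roots hP.ne_zero).2 (hall x)
    rw [hK] at hle
    have : r * r = 3 * 3 ^ (2 * m + 1) := by rw [hr, ← pow_add, ← pow_succ']; congr 1; omega
    nlinarith
  simp [P, N, S, T] at hx
  obtain ⟨⟨⟨hx0, hx1⟩, hx2⟩, hxN⟩ := hx
  refine ⟨x, hx0, hx1, hx2, fun e => hxN ?_⟩
  have hs : ∀ y : K, sg m y = y ^ r := fun y => by rw [sg_apply, hr, ← pow_mul, ← pow_succ]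
  have hs1 : sg m (x + 1) = x ^ r + 1 := by rw [map_add, map_one, hs]
  have hs2 : sg m (x - 1) = x ^ r - 1 := by rw [map_sub, map_one, hs]
  have n1 : x ^ r + 1 ≠ 0 := by rw [← hs1]; exact (map_ne_zero _).2 hx1
  have n2 : x ^ r - 1 ≠ 0 := by rw [← hs2]; exact (map_ne_zero _).2 hx2
  have n0 : x ^ r ≠ 0 := pow_ne_zero _ hx0
  simp only [wC, hs x, hs1, hs2] at e
  field_simp at e
  linear_combination e

end Cfsg.Agent.Lib.ReeMultiplier
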