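import Cfsg.Agent.Lib.ReeMultiplier.Middle

/-!
The subgroup `U` of the small Ree group kills the 3-part of the kernels of stem extensions: modulo the
complement the commutators of first coordinates form a scalar-invariant pairing, hence vanish.
-/

set_option autoImplicit false
set_option linter.unusedSectionVars false

namespace Cfsg.Agent.Lib.ReeMultiplier

universe u

open Cfsg.Agent.Lib.LieTwisted.ReeOut Cfsg.Agent.Lib.Schur.Fusion
open Cfsg.Agent.Lib.LieTwisted.Ree (U1)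
open scoped commutatorElement

variable {K : Type u} [Field K] [Fintype K] [CharP K 3] {m : ℕ}

/-- Biadditivity and scalar invariance of the commutators of the first coordinates in a quotient. -/
theorem lifts_commute {Q : Type*} [Group Q] (hK : Fintype.card K = 3 ^ (2 * m + 1)) (hm : 1 ≤ m)
    (l : K → Q) (hcen : ∀ a b, ⁅l a, l b⁆ ∈ Subgroup.center Q)
    (hadd : ∀ a b, (l a * l b)⁻¹ * l (a + b) ∈ Subgroup.center Q)
    (hinv : ∀ s, s ≠ 0 → ∀ a b, ⁅l (s * a), l (s * b)⁆ = ⁅l a, l b⁆) (a b : K) : Commute (l a) (l b) := by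
  obtain ⟨x, hx0, hx1, hx2, -⟩ := exists_good hK hm
  have hmul : ∀ p a b : K, ⁅l p, l (a + b)⁆ = ⁅l p, l a⁆ * ⁅l p, l b⁆ := fun p a b => by
    have hc : ∀ g, Commute g ((l a * l b)⁻¹ * l (a + b)) := fun g => Subgroup.mem_center_iff.1 (hadd a b) g
    rw [show l (a + b) = l a * l b * ((l a * l b)⁻¹ * l (a + b)) by rw [mul_inv_cancel_left],
      commutatorElement_mul_right_eq_mul_conj, commutatorElement_eq_one_iff_commute.2 (hc _), mul_one,
      mul_inv_cancel_right, commutatorElement_mul_right_eq_mul_conj, mul_assoc ⁅l p, l a⁆,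
      Subgroup.mem_center_iff.1 (hcen p b) (l a), mul_assoc, mul_assoc, mul_inv_cancel, mul_one]
  have h1 : ∀ a b q : K, ⁅l (a + b), l q⁆ = ⁅l a, l q⁆ * ⁅l b, l q⁆ := fun a b q => by
    rw [← commutatorElement_inv, hmul, mul_inv_rev, commutatorElement_inv, commutatorElement_inv]
    exact Subgroup.mem_center_iff.1 (hcen a q) _
  exact commutatorElement_eq_one_iff_commute.1
    (trivial_of_scalar (β := fun a b => ⁅l a, l b⁆) h1 hmul hinv hx0 hx1 hx2 a b)

/-- The subgroup `U` kills the 3-part. -/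
theorem killsPart_U1 (hK : Fintype.card K = 3 ^ (2 * m + 1)) (hm : 1 ≤ m) :
    KillsPart 3 (U1 (K := K) m) := by
  intro Γ _ _ σ hσ z hz _ hzc
  choose L hL using fun p : K × K × K => hσ.1 (X m p.1 p.2.1 p.2.2)
  choose N hN using fun y : Kˣ => hσ.1 (Y hK y)
  obtain ⟨E⟩ : Nonempty (Lf hK σ) := ⟨⟨hσ.2.1, fun t u v => L (t, u, v), fun t u v => hL _, N, hN⟩⟩
  obtain ⟨Md, hMσ, hMadd, hMy⟩ := E.exists_section hm
  obtain ⟨mdHom, hmd⟩ : ∃ f : Multiplicative (K × K) →* Γ, ∀ p, f (Multiplicative.ofAdd p) = Md p :=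
    ⟨MonoidHom.mk' (fun p => Md p.toAdd) fun p q => hMadd _ _, fun _ => rfl⟩
  let D := mdHom.range
  have hMD : ∀ p, Md p ∈ D := fun p => ⟨_, hmd p⟩
  have hDeq : ∀ d ∈ D, ∃ p, d = Md p := by
    rintro _ ⟨p, rfl⟩; exact ⟨p.toAdd, hmd _⟩
  have hDker : ∀ d ∈ D, σ d = 1 → d = 1 := by
    intro d hd h1
    obtain ⟨⟨u, v⟩, rfl⟩ := hDeq d hd
    rw [hMσ, ← X_zero] at h1
    obtain ⟨-, rfl, rfl⟩ := X_inj h1
    rw [show ((0 : K), (0 : K)) = 0 from rfl, ← hmd, ofAdd_zero, map_one]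
  obtain ⟨P, hPdef⟩ : ∃ P : Subgroup Γ, P = (U1 (K := K) m).comap σ := ⟨_, rfl⟩
  rw [← hPdef] at hzc
  have hmemP : ∀ g, g ∈ P ↔ ∃ t u v, σ g = X m t u v := fun g => by
    rw [hPdef]; exact mem_U hK
  have hDP : D ≤ P := fun d hd => by
    obtain ⟨p, rfl⟩ := hDeq d hd
    exact (hmemP _).2 ⟨_, _, _, hMσ p⟩
  have hdec : ∀ g ∈ P, ∃ t p c, σ c = 1 ∧ g = E.L t 0 0 * Md p * c := by
    intro g hg
    obtain ⟨t, u, v, e⟩ := (hmemP g).1 hg
    exact ⟨t, (u, v), (E.L t 0 0 * Md (u, v))⁻¹ * g,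
      by rw [map_mul, map_inv, map_mul, E.spec_L, hMσ, X_split hK, e, inv_mul_cancel], by group⟩
  have hnorm : (D.subgroupOf P).Normal := by
    refine ⟨fun a ha g => ?_⟩
    rw [Subgroup.mem_subgroupOf] at ha ⊢
    obtain ⟨t, p, c, hc, e⟩ := hdec g g.2
    obtain ⟨⟨u, v⟩, hp⟩ := hDeq _ ha
    rw [Subgroup.coe_mul, Subgroup.coe_mul, Subgroup.coe_inv, e, hp,
      show E.L t 0 0 * Md p * c * Md (u, v) * (E.L t 0 0 * Md p * c)⁻¹ =
        E.L t 0 0 * (Md p * (c * Md (u, v) * c⁻¹) * (Md p)⁻¹) * (E.L t 0 0)⁻¹ by group,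
      ← E.central hc, mul_inv_cancel_right, E.middle_comm hm (hMσ p) (hMσ (u, v)), mul_inv_cancel_right,
      E.conj_section hMσ hMadd hMy hm]
    exact hMD _
  let D' := D.subgroupOf P
  let q := QuotientGroup.mk' D'
  have hMcen : ∀ g : P, (∃ u v, σ (g : Γ) = X m 0 u v) → q g ∈ Subgroup.center (↥P ⧸ D') := by
    rintro g ⟨u, v, hg⟩
    rw [Subgroup.mem_center_iff]
    intro h
    obtain ⟨b, rfl⟩ := QuotientGroup.mk'_surjective D' h
    obtain ⟨d, hd⟩ : ∃ d : P, (d : Γ) = Md (u, v) := ⟨⟨_, hDP (hMD _)⟩, rfl⟩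
    have hd1 : q d = 1 := (QuotientGroup.eq_one_iff _).2 (by rw [Subgroup.mem_subgroupOf, hd]; exact hMD _)
    have e1 : q g = q (d⁻¹ * g) := by rw [map_mul, map_inv, hd1, inv_one, one_mul]
    have hker : σ ((d⁻¹ * g : P) : Γ) = 1 := by
      rw [Subgroup.coe_mul, Subgroup.coe_inv, map_mul, map_inv, hg, hd, hMσ, inv_mul_cancel]
    rw [e1, ← map_mul, ← map_mul]
    congr 1
    exact Subtype.ext (E.central hker _)
  let l : K → P := fun t => ⟨E.L t 0 0, (hmemP _).2 ⟨_, _, _, E.spec_L t 0 0⟩⟩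
  have hcom : ∀ a b, ∃ u v, σ ((⁅l a, l b⁆ : P) : Γ) = X m 0 u v := fun a b => by
    obtain ⟨w, z', e⟩ := X_comm_exists hK a b
    exact ⟨w, z', by rw [show ((⁅l a, l b⁆ : P) : Γ) = ⁅E.L a 0 0, E.L b 0 0⁆ from rfl, map_commutatorElement,
      E.spec_L, E.spec_L, e]⟩
  have hcomm : ∀ a b, Commute (q (l a)) (q (l b)) := by
    refine lifts_commute hK hm (fun t => q (l t)) (fun a b => ?_) (fun a b => ?_) (fun s hs a b => ?_)
    · rw [← map_commutatorElement]; exact hMcen _ (hcom a b)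
    · rw [← map_mul, ← map_inv, ← map_mul]
      refine hMcen _ ⟨sg m b * a, -(sg m b * a * (b - a)), ?_⟩
      show σ ((E.L a 0 0 * E.L b 0 0)⁻¹ * E.L (a + b) 0 0) = _
      rw [map_mul, map_inv, map_mul, E.spec_L, E.spec_L, E.spec_L, inv_mul_eq_iff_eq_mul, X_mul hK, X_mul hK]
      congr 1 <;> simp
    · obtain ⟨y, hy⟩ := aHom_surjective hK (Units.mk0 s hs)
      have hs' : (aHom m y : K) = s := congrArg Units.val hy
      obtain ⟨w, z', e⟩ := X_comm_exists hK a b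
      obtain ⟨c, hc, ec⟩ : ∃ c, σ c = 1 ∧ ⁅E.L a 0 0, E.L b 0 0⁆ = Md (w, z') * c :=
        ⟨(Md (w, z'))⁻¹ * ⁅E.L a 0 0, E.L b 0 0⁆,
          by rw [map_mul, map_inv, map_commutatorElement, E.spec_L, E.spec_L, hMσ, e, inv_mul_cancel], by group⟩
      have e2 : ⁅E.L (s * a) 0 0, E.L (s * b) 0 0⁆ = Md ((bHom m y : K) * w, (y : K) * z') * c := by
        rw [commutator_congr E.ker_le (a' := E.N y * E.L a 0 0 * (E.N y)⁻¹) (b' := E.N y * E.L b 0 0 * (E.N y)⁻¹)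
            (by rw [E.spec_conj y (E.spec_L _ _ _), E.spec_L, hs', mul_zero, mul_zero])
            (by rw [E.spec_conj y (E.spec_L _ _ _), E.spec_L, hs', mul_zero, mul_zero]),
          ← conjugate_commutatorElement, ec, ← hMy]
        calc E.N y * (Md (w, z') * c) * (E.N y)⁻¹ = E.N y * Md (w, z') * (c * (E.N y)⁻¹) := by group
          _ = _ := by rw [← E.central hc]; group
      rw [← map_commutatorElement, ← map_commutatorElement]
      refine (QuotientGroup.eq).2 ?_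
      rw [Subgroup.mem_subgroupOf]
      show (⁅E.L (s * a) 0 0, E.L (s * b) 0 0⁆)⁻¹ * ⁅E.L a 0 0, E.L b 0 0⁆ ∈ D
      rw [e2, ec, mul_inv_rev, E.central hc (Md (w, z')), mul_assoc c⁻¹, ← mul_assoc _ c,
        E.central hc, mul_assoc c, inv_mul_cancel_left]
      exact mul_mem (inv_mem (hMD _)) (hMD _)
  have hle : ⁅P, P⁆ ≤ D := by
    refine Subgroup.commutator_le.2 fun a ha b hb => ?_
    have key : ∀ g : P, ∃ t c, c ∈ Subgroup.center (↥P ⧸ D') ∧ q g = q (l t) * c := fun g => by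
      obtain ⟨t, u, v, hg⟩ := (hmemP g).1 g.2
      refine ⟨t, q ((l t)⁻¹ * g), hMcen _ ⟨u, v, ?_⟩, by rw [map_mul, map_inv, mul_inv_cancel_left]⟩
      show σ ((E.L t 0 0)⁻¹ * (g : Γ)) = _
      rw [map_mul, map_inv, E.spec_L, hg, ← X_split hK t u v, inv_mul_cancel_left]
    obtain ⟨t, c, hc, e1⟩ := key ⟨a, ha⟩
    obtain ⟨t', c', hc', e2⟩ := key ⟨b, hb⟩
    have hq1 : q ⁅(⟨a, ha⟩ : P), ⟨b, hb⟩⁆ = 1 := by
      rw [map_commutatorElement, commutatorElement_eq_one_iff_commute, e1, e2]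
      exact ((hcomm t t').mul_right (Subgroup.mem_center_iff.1 hc' _)).mul_left
        (Subgroup.mem_center_iff.1 hc _).symm
    exact Subgroup.mem_subgroupOf.1 ((QuotientGroup.eq_one_iff _).1 hq1)
  exact hDker z (hle hzc) hz

end Cfsg.Agent.Lib.ReeMultiplier
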